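import Groth.Agent.H23.SpFlat
import Groth.Agent.H23.C1Comm
import Groth.Agent.AssLib.Basic
import Groth.Agent.QCoh.Support
import Groth.Agent.LenIneq5.Apply
import Groth.Agent.CycLib.FinLen
import Groth.Prelude.Def_FDesc

/-!
# Total multiplicity of the fibres of a flat sheaf over a discrete valuation ring
-/

noncomputable section

set_option autoImplicit false
set_option linter.style.haveILetI false

universe u

open CategoryTheory AlgebraicGeometry IsLocalRing
open scoped Pointwise TensorProduct

namespace Groth.Agent.DvrFibreLen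

open Groth.Agent H23 H23.SpGysin StalkPrimes CDiv6

section Algebra

variable {A : Type u} [CommRing A] [IsNoetherianRing A] [IsLocalRing A] {M : Type u} [AddCommGroup M] [Module A M]
  [Module.Finite A M] {f : A}

/-- a regular element cutting a component of the support down to the closed point leaves the closed point associated -/
theorem maximalIdeal_mem_associatedPrimes (hf : f ∈ maximalIdeal A) (hinj : Function.Injective fun m : M => f • m)
    {p : Ideal A} (hp : p ∈ (Module.annihilator A M).minimalPrimes)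
    (hmin : ∀ Q : Ideal A, Q.IsPrime → p ≤ Q → f ∈ Q → Q = maximalIdeal A) :
    maximalIdeal A ∈ associatedPrimes A (M ⧸ f • (⊤ : Submodule A M)) := by
  obtain ⟨hpp, m, hm⟩ := isAssociatedPrime_iff.1 (Module.associatedPrimes.minimalPrimes_annihilator_subset_associatedPrimes A M hp)
  haveI := hpp
  have hm0 : m ≠ 0 := fun h => hpp.ne_top (by
    rw [hm, eq_top_iff]
    exact fun a _ => Submodule.mem_colon_singleton.2 (by simp [h]))
  obtain ⟨n, hn, hn'⟩ : ∃ n, m ∈ (Ideal.span {f} ^ n • ⊤ : Submodule A M) ∧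
      m ∉ (Ideal.span {f} ^ (n + 1) • ⊤ : Submodule A M) := by
    by_contra h
    push_neg at h
    have hall : ∀ n, m ∈ (Ideal.span {f} ^ n • ⊤ : Submodule A M) := fun n => by
      induction n with
      | zero => simp
      | succ n ih => exact h n ih
    refine hm0 ?_
    have := Ideal.iInf_pow_smul_eq_bot_of_isLocalRing (M := M) (I := Ideal.span {f})
      (fun e => (maximalIdeal.isMaximal A).ne_top (top_le_iff.1 (e ▸ (Ideal.span_singleton_le_iff_mem _).2 hf)))
    rw [← Submodule.mem_bot A, ← this, Submodule.mem_iInf]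
    exact hall
  rw [Ideal.span_singleton_pow, Submodule.ideal_span_singleton_smul, Submodule.mem_smul_pointwise_iff_exists] at hn
  rw [Ideal.span_singleton_pow, Submodule.ideal_span_singleton_smul, Submodule.mem_smul_pointwise_iff_exists] at hn'
  obtain ⟨m', -, rfl⟩ := hn
  have hm' : m' ∉ (f • ⊤ : Submodule A M) := fun h => hn' (by
    obtain ⟨m'', -, rfl⟩ := Submodule.mem_smul_pointwise_iff_exists _ _ _ |>.1 h
    exact ⟨m'', trivial, by rw [smul_smul, pow_succ]⟩)
  have hpm : ∀ a ∈ p, a • m' = 0 := fun a ha => by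
    have h : a • f ^ n • m' = 0 := by
      rw [hm] at ha
      simpa using Submodule.mem_colon_singleton.1 ha
    rw [smul_comm] at h
    clear hn' hm hm0
    induction n with
    | zero => simpa using h
    | succ n ih => exact ih (hinj (show f • f ^ n • a • m' = f • 0 by rw [smul_zero]; rwa [pow_succ', ← smul_smul] at h))
  let q := Submodule.mkQ (f • ⊤ : Submodule A M)
  have hqm : q m' ≠ 0 := fun h => hm' ((Submodule.Quotient.mk_eq_zero _).1 h)
  obtain ⟨Q, hQ, hle⟩ := exists_le_isAssociatedPrime_of_isNoetherianRing A (q m') hqm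
  have hQ' := hQ
  obtain ⟨hQp, -⟩ := isAssociatedPrime_iff.1 hQ'
  have hpQ : p ≤ Q := fun a ha => hle (Submodule.mem_colon_singleton.2 (by
    rw [Submodule.mem_bot, ← map_smul, hpm a ha, map_zero]))
  have hfQ : f ∈ Q := hle (Submodule.mem_colon_singleton.2 (by
    rw [Submodule.mem_bot, ← map_smul]
    exact (Submodule.Quotient.mk_eq_zero _).2 (Submodule.smul_mem_pointwise_smul _ _ _ trivial)))
  exact hmin Q hQp hpQ hfQ ▸ hQ

end Algebra

section Points

theorem primeOf_self {Y : Scheme.{u}} (y : Y) :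
    (primeOf (specializes_rfl : y ⤳ y)).asIdeal = maximalIdeal (Y.presheaf.stalk y) := by
  ext g
  rw [mem_primeOf, mem_maximalIdeal, mem_nonunits_iff, TopCat.Presheaf.stalkSpecializes_refl]
  rfl

variable {R : Type u} [CommRing R] [IsDomain R] [IsDiscreteValuationRing R] {X : Scheme.{u}} (a : X ⟶ B R)
  [LocallyOfFiniteType a] [IsLocallyNoetherian X] {F : X.Modules}

omit [IsLocallyNoetherian X] in
theorem nontrivial_fiber_η (ζ : ↥(a.fiber (η R))) :
    Nontrivial (((Scheme.Modules.pullback (a.fiberι (η R))).obj F).presheaf.stalk ζ) ↔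
      Nontrivial (F.presheaf.stalk (a.fiberι (η R) ζ)) := by
  rw [nontrivial_iff_length (A := (a.fiber (η R)).presheaf.stalk ζ), length_fiber_η,
    ← nontrivial_iff_length]

omit [IsLocallyNoetherian X] in
theorem πx_mem_maximalIdeal {x : X} (hx : a x = s R) : πx a x ∈ maximalIdeal (X.presheaf.stalk x) :=
  Ideal.Quotient.eq_zero_iff_mem.1 ((residue_πx_eq_zero_iff a x).2 hx)

theorem nontrivial_fiber_s (hF : Coh.IsCoh F) (w : ↥(a.fiber (s R))) :
    Nontrivial (((Scheme.Modules.pullback (a.fiberι (s R))).obj F).presheaf.stalk w) ↔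
      Nontrivial (F.presheaf.stalk (a.fiberι (s R) w)) := by
  haveI := QCoh.finite_stalk_of_isFT hF.1 hF.2 (a.fiberι (s R) w)
  rw [nontrivial_iff_length (A := (a.fiber (s R)).presheaf.stalk w),
    CapSheaf.length_stalk_pullback_closed _ F w (ker_fiberι_s a w), ← nontrivial_iff_length]
  refine ⟨fun h => ?_, fun h => Submodule.Quotient.nontrivial_iff.2 fun e => ?_⟩
  · haveI := h
    exact (Submodule.mkQ_surjective (πx a (a.fiberι (s R) w) • (⊤ : Submodule (X.presheaf.stalk (a.fiberι (s R) w))
      (F.presheaf.stalk (a.fiberι (s R) w))))).nontrivial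
  refine (top_ne_bot : (⊤ : Submodule (X.presheaf.stalk (a.fiberι (s R) w))
    (F.presheaf.stalk (a.fiberι (s R) w))) ≠ ⊥) ?_
  refine Submodule.eq_bot_of_le_smul_of_le_jacobson_bot (Ideal.span {πx a (a.fiberι (s R) w)}) ⊤
    Module.Finite.fg_top ?_ ?_
  · rw [Submodule.ideal_span_singleton_smul]; exact e.ge
  · rw [IsLocalRing.jacobson_eq_maximalIdeal ⊥ bot_ne_top, Ideal.span_singleton_le_iff_mem]
    exact πx_mem_maximalIdeal a (FibDim.fiber_apply_fiberι a w)

/-- an associated prime of the quotient gives an associated point of the fibre -/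
theorem mem_ass_fiber_s (w : ↥(a.fiber (s R)))
    (h : maximalIdeal (X.presheaf.stalk (a.fiberι (s R) w)) ∈ associatedPrimes (X.presheaf.stalk (a.fiberι (s R) w))
      (F.presheaf.stalk (a.fiberι (s R) w) ⧸ πx a (a.fiberι (s R) w) •
        (⊤ : Submodule (X.presheaf.stalk (a.fiberι (s R) w)) (F.presheaf.stalk (a.fiberι (s R) w))))) :
    w ∈ AssSch.Ass ((Scheme.Modules.pullback (a.fiberι (s R))).obj F) := by
  set i := a.fiberι (s R) with hi
  rw [AssLib.mem_ass_def]
  refine (LinearEquiv.AssociatedPrimes.eq ((KFlatLib.stalkPullbackIso i w).app F).toLinearEquiv).symm ▸ ?_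
  algebraize [(i.stalkMap w).hom]
  let A := X.presheaf.stalk (i w)
  let S := (a.fiber (s R)).presheaf.stalk w
  let M := F.presheaf.stalk (i w)
  have hs : Function.Surjective (algebraMap A S) := i.stalkMap_surjective w
  have hker : RingHom.ker (Algebra.ofId A S) = Ideal.span {πx a (i w)} := ker_fiberι_s a w
  let e : S ⊗[A] M ≃ₗ[A] M ⧸ πx a (i w) • (⊤ : Submodule A M) :=
    ((TensorProduct.congr ((Ideal.quotientKerAlgEquivOfSurjective (f := Algebra.ofId A S) hs).symm.toLinearEquiv)
      (LinearEquiv.refl A M)).trans (TensorProduct.quotTensorEquivQuotSMul M _)).trans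
      (Submodule.quotEquivOfEq _ _ (by rw [hker, Submodule.ideal_span_singleton_smul]))
  rw [← LinearEquiv.AssociatedPrimes.eq e] at h
  obtain ⟨-, z, hz⟩ := isAssociatedPrime_iff.1 h
  haveI : IsNoetherianRing S := isNoetherianRing_of_surjective A S (algebraMap A S) hs
  show maximalIdeal S ∈ associatedPrimes S (S ⊗[A] M)
  refine isAssociatedPrime_iff.2 ⟨inferInstance, z, Ideal.ext fun t => ?_⟩
  obtain ⟨r, rfl⟩ := hs t
  rw [Submodule.mem_colon_singleton, Submodule.mem_bot, algebraMap_smul, ← Submodule.mem_bot A,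
    ← Submodule.mem_colon_singleton, ← hz, mem_maximalIdeal, mem_maximalIdeal, mem_nonunits_iff, mem_nonunits_iff]
  haveI : IsLocalHom (algebraMap A S) := inferInstanceAs (IsLocalHom (i.stalkMap w).hom)
  exact not_congr (isUnit_map_iff (algebraMap A S) r)

end Points

/-- **the multiplicities of the special fibre dominate those of the generic fibre** -/
theorem sum_length_le {A : Type u} [CommRing A] [IsDomain A]
    [IsDiscreteValuationRing A] {X : Scheme.{u}} (f : X ⟶ Spec (CommRingCat.of A)) [IsProper f] (F : X.Modules)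
    (hF : Coh.IsCoh F) (hflat : FlatMod.IsFlatOver f F)
    (hemb : AssSch.NoEmbedded ((Scheme.Modules.pullback (f.fiberι (s A))).obj F)) :
    ∑ᶠ z' : {v : ↥(f.fiber (η A)) // Nontrivial (((Scheme.Modules.pullback (f.fiberι (η A))).obj F).presheaf.stalk v) ∧
        ∀ w : ↥(f.fiber (η A)), Nontrivial (((Scheme.Modules.pullback (f.fiberι (η A))).obj F).presheaf.stalk w) →
          v ∈ closure {w} → w = v},
        Module.length ((f.fiber (η A)).presheaf.stalk z'.1)
          (((Scheme.Modules.pullback (f.fiberι (η A))).obj F).presheaf.stalk z'.1) ≤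
      ∑ᶠ z : {v : ↥(f.fiber (s A)) // Nontrivial (((Scheme.Modules.pullback (f.fiberι (s A))).obj F).presheaf.stalk v) ∧
        ∀ w : ↥(f.fiber (s A)), Nontrivial (((Scheme.Modules.pullback (f.fiberι (s A))).obj F).presheaf.stalk w) →
          v ∈ closure {w} → w = v},
        Module.length ((f.fiber (s A)).presheaf.stalk z.1)
          (((Scheme.Modules.pullback (f.fiberι (s A))).obj F).presheaf.stalk z.1) := by
  classical
  haveI : IsLocallyNoetherian X := LocallyOfFiniteType.isLocallyNoetherian f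
  haveI : CompactSpace X := QuasiCompact.compactSpace_of_compactSpace f
  set ι := f.fiberι (η A) with hι
  set κ := f.fiberι (s A) with hκ
  set P : ↥(f.fiber (η A)) → Prop := fun v => Nontrivial (((Scheme.Modules.pullback ι).obj F).presheaf.stalk v) ∧
    ∀ w, Nontrivial (((Scheme.Modules.pullback ι).obj F).presheaf.stalk w) → v ∈ closure {w} → w = v with hP
  set Q : ↥(f.fiber (s A)) → Prop := fun v => Nontrivial (((Scheme.Modules.pullback κ).obj F).presheaf.stalk v) ∧
    ∀ w, Nontrivial (((Scheme.Modules.pullback κ).obj F).presheaf.stalk w) → v ∈ closure {w} → w = v with hQ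
  have hclosed : IsClosed {x : X | Nontrivial (F.presheaf.stalk x)} := by
    refine (?_ : CohB1.support F = {x : X | Nontrivial (F.presheaf.stalk x)}) ▸ QCoh.isClosed_support_of_isFT hF.1 hF.2
    ext x
    exact not_subsingleton_iff_nontrivial
  -- maximal points of the generic fibre are maximal in the support
  have hmaxη : ∀ v, P v → ∀ y : X, Nontrivial (F.presheaf.stalk y) → y ⤳ ι v → y = ι v := by
    intro v hv y hy hyv
    have hya : f y = η A := by
      rcases eq_η_or_eq_s A (f y) with h | h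
      · exact h
      · exfalso
        have h' : s A ⤳ η A := by
          rw [← h, ← FibDim.fiber_apply_fiberι f v]
          exact hyv.map f.continuous
        exact η_ne_s A (h'.antisymm ((genericPoint_spec (B A)).specializes (Set.mem_univ _))).eq.symm
    obtain ⟨y', rfl⟩ : y ∈ Set.range ι := by rw [hι, Scheme.Hom.range_fiberι]; exact hya
    rw [hv.2 y' ((nontrivial_fiber_η f y').2 hy)
      (specializes_iff_mem_closure.1 (ι.isEmbedding.isInducing.specializes_iff.1 hyv))]
  -- the special fibre at a maximal point of the special fibre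
  have hmaxs : ∀ v, Q v → ∀ y : X, Nontrivial (F.presheaf.stalk y) → y ⤳ κ v → f y = s A → y = κ v := by
    intro v hv y hy hyv hya
    obtain ⟨y', rfl⟩ : y ∈ Set.range κ := by rw [hκ, Scheme.Hom.range_fiberι]; exact hya
    rw [hv.2 y' ((nontrivial_fiber_s f hF y').2 hy)
      (specializes_iff_mem_closure.1 (κ.isEmbedding.isInducing.specializes_iff.1 hyv))]
  have hnontriv_of_spec : ∀ {y x : X}, y ⤳ x → Nontrivial (F.presheaf.stalk y) → Nontrivial (F.presheaf.stalk x) :=
    fun hyx hy => hyx.mem_closed hclosed hy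
  -- each maximal point of the generic fibre specialises to one of the special fibre
  have hex : ∀ v, P v → ∃ w, Q w ∧ ι v ⤳ κ w := by
    intro v hv
    have hn : Nontrivial (F.presheaf.stalk (ι v)) := (nontrivial_fiber_η f v).1 hv.1
    obtain ⟨x₀, hx₀, hx₀a⟩ : ∃ x₀ ∈ closure ({ι v} : Set X), f x₀ = s A := by
      have hc := f.isClosedMap _ (isClosed_closure (s := ({ι v} : Set X)))
      have hη : η A ∈ f '' closure {ι v} := ⟨ι v, subset_closure rfl, FibDim.fiber_apply_fiberι f v⟩
      obtain ⟨x₀, hx₀, h⟩ := ((genericPoint_spec (B A)).specializes (Set.mem_univ (s A))).mem_closed hc hη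
      exact ⟨x₀, hx₀, h⟩
    have h₀ : ι v ⤳ x₀ := specializes_iff_mem_closure.2 hx₀
    obtain ⟨q, hq, -⟩ := Ideal.exists_minimalPrimes_le
      (sup_le ((le_maximalIdeal (primeOf h₀).2.ne_top)) ((Ideal.span_singleton_le_iff_mem _).2 (πx_mem_maximalIdeal f hx₀a)) :
        (primeOf h₀).asIdeal ⊔ Ideal.span {πx f x₀} ≤ maximalIdeal _)
    haveI := hq.1.1
    obtain ⟨x, hx, e⟩ := exists_point q
    have hvx : ι v ⤳ x := (primeOf_le_iff hx h₀).1 (e ▸ (le_sup_left.trans hq.1.2))
    have hxa : f x = s A := by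
      refine (residue_πx_eq_zero_iff f x).1 (Ideal.Quotient.eq_zero_iff_mem.2 ?_)
      rw [← stalkSpecializes_πx f hx, mem_maximalIdeal, mem_nonunits_iff, ← mem_primeOf, e]
      exact hq.1.2 (Ideal.mem_sup_right (Ideal.mem_span_singleton_self _))
    have hmin : ∀ y : X, ι v ⤳ y → y ⤳ x → f y = s A → y = x := by
      intro y hvy hyx hya
      have hy₀ : y ⤳ x₀ := hyx.trans hx
      refine primeOf_inj hy₀ hx ?_
      refine le_antisymm ((primeOf_le_iff hx hy₀).2 hyx) (e.le.trans (hq.2 ⟨(primeOf hy₀).2, sup_le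
        ((primeOf_le_iff hy₀ h₀).2 hvy) ?_⟩ (e ▸ (primeOf_le_iff hx hy₀).2 hyx)))
      rw [Ideal.span_singleton_le_iff_mem, mem_primeOf, ← mem_nonunits_iff, ← mem_maximalIdeal,
        stalkSpecializes_πx]
      exact πx_mem_maximalIdeal f hya
    obtain ⟨w, rfl⟩ : x ∈ Set.range κ := by rw [hκ, Scheme.Hom.range_fiberι]; exact hxa
    haveI := QCoh.finite_stalk_of_isFT hF.1 hF.2 (κ w)
    have hnw : Nontrivial (F.presheaf.stalk (κ w)) := hnontriv_of_spec hvx hn
    -- the minimal prime
    have hsupp : ∀ (y : X) (hy : y ⤳ κ w), (primeOf hy) ∈ Module.support (X.presheaf.stalk (κ w))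
        (F.presheaf.stalk (κ w)) ↔ Nontrivial (F.presheaf.stalk y) := fun y hy => by
      rw [Module.mem_support_iff, nontrivial_iff_length (A := Localization.AtPrime (primeOf hy).asIdeal),
        CapSheaf.length_stalk_eq hF.1 hy, ← nontrivial_iff_length]
    have hp : (primeOf hvx).asIdeal ∈ (Module.annihilator (X.presheaf.stalk (κ w)) (F.presheaf.stalk (κ w))).minimalPrimes := by
      have h := (hsupp _ hvx).2 hn
      rw [Module.support_eq_zeroLocus] at h
      refine ⟨⟨(primeOf hvx).2, h⟩, fun J hJ hle => ?_⟩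
      haveI := hJ.1
      obtain ⟨y, hy, ey⟩ := exists_point J
      have hyn : Nontrivial (F.presheaf.stalk y) := (hsupp y hy).1 (by
        rw [Module.support_eq_zeroLocus]; show _ ≤ (primeOf hy).asIdeal; rw [ey]; exact hJ.2)
      obtain rfl := hmaxη v hv y hyn ((primeOf_le_iff hvx hy).1 (ey ▸ hle))
      rw [← ey]
    have hass : w ∈ AssSch.Ass ((Scheme.Modules.pullback κ).obj F) := by
      refine mem_ass_fiber_s f w (maximalIdeal_mem_associatedPrimes (πx_mem_maximalIdeal f hxa)
        (injective_πx f hflat (κ w)) hp fun J hJ hpJ hπJ => ?_)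
      obtain ⟨y, hy, ey⟩ := exists_point J
      have hya : f y = s A := by
        refine (residue_πx_eq_zero_iff f y).1 (Ideal.Quotient.eq_zero_iff_mem.2 ?_)
        rw [← stalkSpecializes_πx f hy, mem_maximalIdeal, mem_nonunits_iff, ← mem_primeOf, ey]
        exact hπJ
      obtain rfl := hmin y ((primeOf_le_iff hy hvx).1 (ey ▸ hpJ)) hy hya
      rw [← ey, show hy = specializes_rfl from rfl]
      exact primeOf_self _
    refine ⟨w, ⟨(nontrivial_fiber_s f hF w).2 hnw, fun w' hw' hww' => ?_⟩, hvx⟩
    have hs' : w' ⤳ w := specializes_iff_mem_closure.2 hww'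
    haveI : IsLocallyNoetherian (f.fiber (s A)) := LocallyOfFiniteType.isLocallyNoetherian (f.fiberToSpecResidueField (s A))
    obtain ⟨u', hu', hu⟩ := AssLib.exists_ass_specializes (x := w') (QCoh.isQCoh_pullback κ hF.1)
      (not_subsingleton_iff_nontrivial.2 hw')
    obtain rfl := hemb w hass u' hu' (hu.trans hs')
    exact (hs'.antisymm hu).eq
  choose φ hφQ hφ using hex
  -- finiteness
  have hfinη : Finite {v // P v} := by
    haveI : Finite {ξ : X // ξ ∈ {x : X | Nontrivial (F.presheaf.stalk x)} ∧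
        (∀ y ∈ {x : X | Nontrivial (F.presheaf.stalk x)}, y ⤳ ξ → y = ξ) ∧ ξ ∈ Set.univ} :=
      (C1Comm.finite_maximal_inter hclosed (CompactSpace.isCompact_univ (X := X))).to_subtype
    refine Finite.of_injective (fun v : {v // P v} => (⟨ι v.1, (nontrivial_fiber_η f v.1).1 v.2.1,
      fun y hy => hmaxη v.1 v.2 y hy, trivial⟩ :
      {ξ : X // ξ ∈ {x : X | Nontrivial (F.presheaf.stalk x)} ∧
        (∀ y ∈ {x : X | Nontrivial (F.presheaf.stalk x)}, y ⤳ ξ → y = ξ) ∧ ξ ∈ Set.univ})) fun v v' h => ?_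
    exact Subtype.ext (ι.isEmbedding.injective (congrArg Subtype.val h))
  have hclosed_s : IsClosed {x : X | Nontrivial (F.presheaf.stalk x) ∧ f x = s A} :=
    hclosed.inter ((IsLocalRing.isClosed_singleton_closedPoint (R := A)).preimage f.continuous)
  have hfins : Finite {v // Q v} := by
    haveI : Finite {ξ : X // ξ ∈ {x : X | Nontrivial (F.presheaf.stalk x) ∧ f x = s A} ∧
        (∀ y ∈ {x : X | Nontrivial (F.presheaf.stalk x) ∧ f x = s A}, y ⤳ ξ → y = ξ) ∧ ξ ∈ Set.univ} :=
      (C1Comm.finite_maximal_inter hclosed_s (CompactSpace.isCompact_univ (X := X))).to_subtype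
    refine Finite.of_injective (fun v : {v // Q v} => (⟨κ v.1, ⟨(nontrivial_fiber_s f hF v.1).1 v.2.1,
      FibDim.fiber_apply_fiberι f v.1⟩, fun y hy hyv => hmaxs v.1 v.2 y hy.1 hyv hy.2, trivial⟩ :
      {ξ : X // ξ ∈ {x : X | Nontrivial (F.presheaf.stalk x) ∧ f x = s A} ∧
        (∀ y ∈ {x : X | Nontrivial (F.presheaf.stalk x) ∧ f x = s A}, y ⤳ ξ → y = ξ) ∧ ξ ∈ Set.univ})) fun v v' h => ?_
    exact Subtype.ext (κ.isEmbedding.injective (congrArg Subtype.val h))
  haveI := Fintype.ofFinite {v // P v}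
  haveI := Fintype.ofFinite {v // Q v}
  rw [finsum_eq_sum_of_fintype, finsum_eq_sum_of_fintype]
  let Φ : {v // P v} → {v // Q v} := fun v => ⟨φ v.1 v.2, hφQ v.1 v.2⟩
  rw [← Finset.sum_fiberwise Finset.univ Φ]
  refine Finset.sum_le_sum fun w _ => ?_
  rcases (Finset.univ.filter fun v => Φ v = w).eq_empty_or_nonempty with he | ⟨v₀, hv₀⟩
  · rw [he, Finset.sum_empty]; exact bot_le
  set x := κ w.1 with hx
  have hspec : ∀ v ∈ (Finset.univ.filter fun v => Φ v = w), ι v.1 ⤳ x := fun v hv => by
    have e := (Finset.mem_filter.1 hv).2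
    rw [hx, ← e]
    exact hφ v.1 v.2
  haveI := QCoh.finite_stalk_of_isFT hF.1 hF.2 x
  let M := F.presheaf.stalk x
  have hxa : f x = s A := FibDim.fiber_apply_fiberι f w.1
  have hsupp : ∀ (y : X) (hy : y ⤳ x), (primeOf hy) ∈ Module.support (X.presheaf.stalk x) M ↔
      Nontrivial (F.presheaf.stalk y) := fun y hy => by
    rw [Module.mem_support_iff, nontrivial_iff_length (A := Localization.AtPrime (primeOf hy).asIdeal),
      CapSheaf.length_stalk_eq hF.1 hy, ← nontrivial_iff_length]
  have hne : ∀ (v : {v // P v}) (hv : ι v.1 ⤳ x), (primeOf hv).asIdeal ≠ maximalIdeal _ := fun v hv e => by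
    have h1 : ι v.1 = x := primeOf_inj hv specializes_rfl (e.trans (primeOf_self x).symm)
    have h2 := congrArg f h1
    rw [FibDim.fiber_apply_fiberι f v.1, hxa] at h2
    exact η_ne_s A h2
  have hdim : 0 < Module.supportDim (X.presheaf.stalk x) M := by
    have hv := hspec v₀ hv₀
    refine Order.krullDim_pos_iff.2 ⟨⟨primeOf hv, (hsupp _ hv).2 ((nontrivial_fiber_η f v₀.1).1 v₀.2.1)⟩,
      ⟨primeOf (specializes_rfl : x ⤳ x), (hsupp _ _).2 (hnontriv_of_spec hv ((nontrivial_fiber_η f v₀.1).1 v₀.2.1))⟩, ?_⟩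
    refine lt_of_le_of_ne ((primeOf_le_iff _ hv).2 hv) fun e => hne v₀ hv ?_
    exact (congrArg PrimeSpectrum.asIdeal (congrArg Subtype.val e)).trans (primeOf_self x)
  have hfin : Module.length (X.presheaf.stalk x) (M ⧸ (Ideal.span {πx f x} • (⊤ : Submodule (X.presheaf.stalk x) M))) ≠ ⊤ := by
    refine CycLib.length_ne_top_of_support fun p hp => ?_
    rw [Module.support_quotient] at hp
    obtain ⟨y, hy, ey⟩ := exists_point p.asIdeal
    have hyn : Nontrivial (F.presheaf.stalk y) := (hsupp y hy).1 (by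
      rw [show primeOf hy = p from PrimeSpectrum.ext ey]; exact hp.1)
    have hya : f y = s A := by
      refine (residue_πx_eq_zero_iff f y).1 (Ideal.Quotient.eq_zero_iff_mem.2 ?_)
      rw [← stalkSpecializes_πx f hy, mem_maximalIdeal, mem_nonunits_iff, ← mem_primeOf, ey]
      exact hp.2 (Ideal.mem_span_singleton_self _)
    obtain rfl := hmaxs w.1 w.2 y hyn hy hya
    exact PrimeSpectrum.ext (ey.symm.trans (primeOf_self _))
  have hineq := (LenIneq5.length_support (πx f x) (πx_mem_maximalIdeal f hxa) hdim hfin).1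
  have hRHS : Module.length ((f.fiber (s A)).presheaf.stalk w.1)
      (((Scheme.Modules.pullback κ).obj F).presheaf.stalk w.1) =
      Module.length (X.presheaf.stalk x) (M ⧸ (Ideal.span {πx f x} • (⊤ : Submodule (X.presheaf.stalk x) M))) := by
    rw [CapSheaf.length_stalk_pullback_closed κ F w.1 (ker_fiberι_s f w.1), Submodule.ideal_span_singleton_smul]
  rw [hRHS]
  refine le_trans ?_ hineq
  have hmem : ∀ v ∈ (Finset.univ.filter fun v => Φ v = w), ∃ p : (Module.annihilator (X.presheaf.stalk x) M).minimalPrimes,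
      ∃ hv : ι v.1 ⤳ x, p.1 = (primeOf hv).asIdeal := fun v hv' => by
    have hv := hspec v hv'
    have hn := (nontrivial_fiber_η f v.1).1 v.2.1
    have h := (hsupp _ hv).2 hn
    rw [Module.support_eq_zeroLocus] at h
    refine ⟨⟨(primeOf hv).asIdeal, ⟨(primeOf hv).2, h⟩, fun J hJ hle => ?_⟩, hv, rfl⟩
    haveI := hJ.1
    obtain ⟨y, hy, ey⟩ := exists_point J
    have hyn : Nontrivial (F.presheaf.stalk y) := (hsupp y hy).1 (by
      rw [Module.support_eq_zeroLocus]; show _ ≤ (primeOf hy).asIdeal; rw [ey]; exact hJ.2)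
    obtain rfl := hmaxη v.1 v.2 y hyn ((primeOf_le_iff hv hy).1 (ey ▸ hle))
    rw [← ey]
  choose g hgs hg using hmem
  haveI : Finite (Module.annihilator (X.presheaf.stalk x) M).minimalPrimes :=
    (Ideal.finite_minimalPrimes_of_isNoetherianRing _ _).to_subtype
  haveI := Fintype.ofFinite (Module.annihilator (X.presheaf.stalk x) M).minimalPrimes
  rw [finsum_eq_sum_of_fintype]
  have key : ∀ (v) (hv : v ∈ Finset.univ.filter fun v => Φ v = w),
      Module.length ((f.fiber (η A)).presheaf.stalk v.1) (((Scheme.Modules.pullback ι).obj F).presheaf.stalk v.1) =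
      (haveI : (g v hv).1.IsPrime := (g v hv).2.1.1
       Module.length (Localization.AtPrime (g v hv).1) (LocalizedModule (g v hv).1.primeCompl M)) := fun v hv => by
    rw [length_fiber_η, ← CapSheaf.length_stalk_eq hF.1 (hgs v hv)]
    have e := hg v hv
    generalize g v hv = p at e ⊢
    obtain ⟨p, hp⟩ := p
    dsimp only at e
    subst e
    rfl
  rw [Finset.sum_attach _ _ |>.symm]
  calc _ = ∑ v ∈ (Finset.univ.filter fun v => Φ v = w).attach,
        (haveI : (g v.1 v.2).1.IsPrime := (g v.1 v.2).2.1.1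
         Module.length (Localization.AtPrime (g v.1 v.2).1) (LocalizedModule (g v.1 v.2).1.primeCompl M)) :=
        Finset.sum_congr rfl fun v _ => key v.1 v.2
    _ = _ := (Finset.sum_image (f := fun p : (Module.annihilator (X.presheaf.stalk x) M).minimalPrimes =>
        haveI : p.1.IsPrime := p.2.1.1
        Module.length (Localization.AtPrime p.1) (LocalizedModule p.1.primeCompl M))
        (g := fun v : {v // v ∈ Finset.univ.filter fun v => Φ v = w} => g v.1 v.2) (fun v _ v' _ h => by
        refine Subtype.ext (Subtype.ext (ι.isEmbedding.injective (primeOf_inj (hgs v.1 v.2) (hgs v'.1 v'.2) ?_)))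
        rw [← hg v.1 v.2, ← hg v'.1 v'.2]
        exact congrArg Subtype.val h)).symm
    _ ≤ _ := Finset.sum_le_univ_sum_of_nonneg fun _ => bot_le

end Groth.Agent.DvrFibreLen

end
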